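import Cfsg.Agent.Lib.Comp.HdH.Base

set_option maxRecDepth 100000
set_option Elab.async false

namespace Cfsg.Lib.Comp.HdH

universe u

noncomputable def T1_R : List (List ℕ × ℕ) := (apd [([1],1),
 ([2],1),
 ([3],1),
 ([4],1),
 ([5],1),
 ([6],1),
 ([7],1),
 ([8],1),
 ([9],1),
 ([10],1),
 ([12],1),
 ([1,2,1,2,5],0),
 ([1,3],1),
 ([1,4],1),
 ([1,5],1),
 ([1,6,1,6,8],0),
 ([1,7],1),
 ([1,8],1),
 ([1,9,1,9,10],0),
 ([1,10],1),
 ([2,3,2,3,6],0),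
 ([2,4],1),
 ([2,5],1),
 ([2,6],1),
 ([2,7,2,7,9],0),
 ([2,8],1),
 ([2,9],1),
 ([2,10],1),
 ([3,4,3,4,7],0),
 ([3,5,3,5,8],0),
 ([3,6],1),
 ([3,7],1),
 ([3,8],1),
 ([3,9],1),
 ([3,10],1),
 ([4,5],1),
 ([4,6,4,6,9],0),
 ([4,7],1),
 ([4,8,4,8,10],0),
 ([4,9],1)]
 [([4,10],1),
 ([5,6],1),
 ([5,7,5,7,10],0),
 ([5,8],1),
 ([5,9],1),
 ([5,10],1),
 ([6,7],1),
 ([6,8],1),
 ([6,9],1),
 ([6,10],1),
 ([7,8],1),
 ([7,9],1),
 ([7,10],1),
 ([8,9],1),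
 ([8,10],1),
 ([9,10],1),
 ([12,3],2),
 ([12,1],1),
 ([12,2],1),
 ([12,4],1),
 ([12,5],1),
 ([12,6,12,6,2],0),
 ([12,7,12,7,4],0),
 ([12,8,12,8,5],0),
 ([12,9],1),
 ([12,10],1),
 ([13],2),
 ([4,13],1),
 ([13,1,14,8,3,1],0),
 ([13,2,14,8,2],0),
 ([13,3,14,7],0),
 ([13,5,14,8,6,5],0),
 ([13,6,14,9],0),
 ([13,7,14,7,3],0),
 ([13,8,14,10],0),
 ([13,9,14,9,6],0),
 ([13,10,14,10,8],0),
 ([12,13,12,13,12,13,12,13,12,13,10,2],0),
 ([13,14],0)])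

noncomputable def T1_n_1 : Net :=
 (Net.cons 24 (nat_lit 0x400000)
 (Net.cons 12 (nat_lit 0x5d0000628)
 (Net.cons 6 (nat_lit 0x2004012008)
 (Net.cons 3 (nat_lit 0x180002106180)
 (Net.cons 1 (nat_lit 0x49001041248)
 (Net.cons 1 (nat_lit 0x412492490090)
 (Net.cons 1 (nat_lit 0x9040200048)
 (Net.cons 3 (nat_lit 0x1820800c6180)
 (Net.cons 6 (nat_lit 0x203b012008)
 (Net.cons 12 (nat_lit 0x5d5000628)
 (Net.cons 24 (nat_lit 0x400000)
 Net.nil)))))))))))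

noncomputable def T1_n_3 : Net :=
 (Net.cons 24 (nat_lit 0xbf0000)
 (Net.cons 12 (nat_lit 0x134000c84)
 (Net.cons 6 (nat_lit 0x30002038000)
 (Net.cons 3 (nat_lit 0x80080082102)
 (Net.cons 1 (nat_lit 0x41048201008)
 (Net.cons 1 (nat_lit 0x400092010412)
 (Net.cons 1 (nat_lit 0x9000008)
 (Net.cons 3 (nat_lit 0x80002082142)
 (Net.cons 6 (nat_lit 0x34015038014)
 (Net.cons 12 (nat_lit 0xb34000c84)
 (Net.cons 24 (nat_lit 0xbf0000)
 Net.nil)))))))))))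

noncomputable def T1_n_4 : Net :=
 (Net.cons 24 (nat_lit 0x400000)
 (Net.cons 12 (nat_lit 0x400000b80)
 (Net.cons 6 (nat_lit 0x38030034000)
 (Net.cons 3 (nat_lit 0x100000106100)
 (Net.cons 1 (nat_lit 0x240048049208)
 (Net.cons 1 (nat_lit 0x80490482482)
 (Net.cons 1 (nat_lit 0x40240201040)
 (Net.cons 3 (nat_lit 0x1020000c60c0)
 (Net.cons 6 (nat_lit 0x3800a034000)
 (Net.cons 12 (nat_lit 0x400000b80)
 (Net.cons 24 (nat_lit 0x400000)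
 Net.nil)))))))))))

noncomputable def T1_n_7 : Net :=
 (Net.cons 24 (nat_lit 0x400000)
 (Net.cons 12 (nat_lit 0x400000adc)
 (Net.cons 6 (nat_lit 0x10020038010)
 (Net.cons 3 (nat_lit 0x104000000)
 (Net.cons 1 (nat_lit 0x48249008)
 (Net.cons 1 (nat_lit 0x482010000)
 (Net.cons 1 (nat_lit 0x200008000)
 (Net.cons 3 (nat_lit 0x20461001c4)
 (Net.cons 6 (nat_lit 0x1001a03b034)
 (Net.cons 12 (nat_lit 0x405000adc)
 (Net.cons 24 (nat_lit 0x400000)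
 Net.nil)))))))))))

noncomputable def T1_n_12 : Net :=
 (Net.cons 24 (nat_lit 0x400000)
 (Net.cons 12 (nat_lit 0x3280000e0)
 (Net.cons 6 (nat_lit 0x32008018028)
 (Net.cons 3 (nat_lit 0x180004002102)
 (Net.cons 1 (nat_lit 0x208000249208)
 (Net.cons 1 (nat_lit 0x480402482092)
 (Net.cons 1 (nat_lit 0x40000241040)
 (Net.cons 3 (nat_lit 0x400c60821c2)
 (Net.cons 6 (nat_lit 0x3203a01d002)
 (Net.cons 12 (nat_lit 0x3280000e0)
 (Net.cons 24 (nat_lit 0x400000)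
 Net.nil)))))))))))

noncomputable def T1_n_13 : Net :=
 (Net.cons 24 (nat_lit 0xe480c2)
 (Net.cons 12 (nat_lit 0xe5600071e)
 (Net.cons 6 (nat_lit 0x2c030008024)
 (Net.cons 3 (nat_lit 0x184082000000)
 (Net.cons 1 (nat_lit 0x200201049001)
 (Net.cons 1 (nat_lit 0x482012082090)
 (Net.cons 1 (nat_lit 0x41000001048)
 (Net.cons 3 (nat_lit 0x103101044001)
 (Net.cons 6 (nat_lit 0x1802901a004)
 (Net.cons 12 (nat_lit 0x9840006fd)
 (Net.cons 24 (nat_lit 0xf1418c)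
 Net.nil)))))))))))

noncomputable def T1_n : List Net := [Net.nil,
 T1_n_1,
 Net.nil,
 T1_n_3,
 T1_n_4,
 Net.nil,
 Net.nil,
 T1_n_7,
 Net.nil,
 Net.nil,
 Net.nil,
 Net.nil,
 T1_n_12,
 T1_n_13,
 Net.rev T1_n_13]

theorem T1_n_ok : NetsOK 48 T1_n := netsOK_of (by decide +kernel)

theorem T1_n_rel : Rels (gp T1_n) T1_R := rels_of_relsB (k := 6) T1_n_ok (by norm_num) (by decide +kernel)

theorem T1_fin : finB 48 T1_n [1,2,3,4,5,6,7,8,9,10,12,13,14] 45 (runH 48 T1_n (fun x p => ptInv (nth Net.nil T1_n x) p) iv T1_R [] ([1,2,3,4,5,6,7,8,9,10,12].map fun x => [x]) 0 []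
  (apd [1,5,9,13,17,21,25,29,33,37,41,0,8,40,228,312,264,268,272,276,280,284,288,292,296,300,304,308,312,12,52,84,140,224,228,232,236,240,244,248,252,256,260,264,268,276,280,284,288,296,300,304,312,12,44,48,52,56,60,68]
 (apd [72,76,80,84,112,116,120,124,128,132,136,140,232,236,240,244,252,256,260,268,272,276,280,284,288,292,296,300,304,8,12,24,44,48,52,56,60,68,72,76,80,84,116,140,232,236,240,244,248,252,256,260,264,272,276,280,284,288,292,296]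
 [300,304,308,312,8,24,44,48,56,64,112,124,224,228,248,264,268,272,276,280,284,288,292,308,264,268,272,276,280,308]))
  (defsH 48 T1_n (ones 720) [13,14,12,13,14,1,3,12,13,14,1,12,13] (Nat.shiftLeft 1 0) 0)) = true := by decide +kernel

theorem T1_idx : Idx.{u} iv (T1_R ++ []) ([1,2,3,4,5,6,7,8,9,10,12].map fun x => [x]) [1,2,3,4,5,6,7,8,9,10,12,13,14] 45 :=
  Reach.idx T1_n_ok (reach_runH T1_n_ok (fun x p _ => ptInv_gp T1_n_ok x p) T1_n_rel (reach_defsH T1_n_ok _ _ _ _ _ _) _ _) T1_fin (by norm_num)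

end Cfsg.Lib.Comp.HdH
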