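import Cfsg.Agent.Lib.Comp.HdH.Base

set_option maxRecDepth 100000
set_option Elab.async false

namespace Cfsg.Lib.Comp.HdH

universe u

noncomputable def T4_R : List (List ℕ × ℕ) := [([2],1),
 ([5],1),
 ([6],1),
 ([8],1),
 ([9],1),
 ([10],1),
 ([2,5],1),
 ([2,6],1),
 ([2,8],1),
 ([2,9],1),
 ([2,10],1),
 ([5,6],1),
 ([5,8],1),
 ([5,9],1),
 ([5,10],1),
 ([6,8],1),
 ([6,9],1),
 ([6,10],1),
 ([8,9],1),
 ([8,10],1),
 ([9,10],1)]

noncomputable def T4_n_2 : Net :=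
 (Net.cons 16 (nat_lit 0xbc1000005294)
 (Net.cons 8 (nat_lit 0xf20080009c0038)
 (Net.cons 4 (nat_lit 0xe040c0000000204)
 (Net.cons 2 (nat_lit 0x2002022000000)
 (Net.cons 1 (nat_lit 0x504501014000505)
 (Net.cons 2 (nat_lit 0x3131231311333330)
 (Net.cons 4 (nat_lit 0x30d01030f000204)
 (Net.cons 8 (nat_lit 0x8300fe009c0038)
 (Net.cons 16 (nat_lit 0x43ef00005294)
 Net.nil)))))))))

noncomputable def T4_n_5 : Net :=
 (Net.cons 32 (nat_lit 0x760c64c4)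
 (Net.cons 16 (nat_lit 0x64c400006704)
 (Net.cons 8 (nat_lit 0xa000c000d00054)
 (Net.cons 4 (nat_lit 0x8000c000c080000)
 (Net.cons 2 (nat_lit 0x20000000202200)
 (Net.cons 1 (nat_lit 0x4041000000101414)
 (Net.cons 2 (nat_lit 0x2311030003201133)
 (Net.cons 4 (nat_lit 0x4000c000c080009)
 (Net.cons 8 (nat_lit 0xa600c000d00051)
 (Net.cons 16 (nat_lit 0x98fb00008b33)
 (Net.cons 32 (nat_lit 0x993b8833)
 Net.nil)))))))))))

noncomputable def T4_n_6 : Net :=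
 (Net.cons 32 (nat_lit 0xaf67ada0)
 (Net.cons 16 (nat_lit 0x4a20000092ae)
 (Net.cons 8 (nat_lit 0x82009000d80042)
 (Net.cons 4 (nat_lit 0x40e000002020006)
 (Net.cons 2 (nat_lit 0x200000002202000)
 (Net.cons 1 (nat_lit 0x5114555551411545)
 (Net.cons 2 (nat_lit 0x2220000130312102)
 (Net.cons 4 (nat_lit 0x309010f040f0e05)
 (Net.cons 8 (nat_lit 0x2100e300b900a4)
 (Net.cons 16 (nat_lit 0xaf80000d3a5)
 (Net.cons 32 (nat_lit 0x1a4ae6f2)
 Net.nil)))))))))))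

noncomputable def T4_n_8 : Net :=
 (Net.cons 32 (nat_lit 0xad34e610)
 (Net.cons 16 (nat_lit 0xf20000007140)
 (Net.cons 8 (nat_lit 0x18000200540016)
 (Net.cons 4 (nat_lit 0x20c0a0002000408)
 (Net.cons 2 (nat_lit 0x20002200020)
 (Net.cons 1 (nat_lit 0x4141144414415410)
 (Net.cons 2 (nat_lit 0x1112222213233000)
 (Net.cons 4 (nat_lit 0xa0702070a07040f)
 (Net.cons 8 (nat_lit 0x5e005800120004)
 (Net.cons 16 (nat_lit 0x23fe000050ef)
 (Net.cons 32 (nat_lit 0xb8065547)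
 Net.nil)))))))))))

noncomputable def T4_n_9 : Net :=
 (Net.cons 32 (nat_lit 0x38cbd31c)
 (Net.cons 16 (nat_lit 0xd00000009150)
 (Net.cons 8 (nat_lit 0x640082006000c8)
 (Net.cons 4 (nat_lit 0x8020002080c0404)
 (Net.cons 2 (nat_lit 0x2000200000)
 (Net.cons 1 (nat_lit 0x5104451050144111)
 (Net.cons 2 (nat_lit 0x1321323233313201)
 (Net.cons 4 (nat_lit 0xb0d050d08030b0b)
 (Net.cons 8 (nat_lit 0xa200e40065009e)
 (Net.cons 16 (nat_lit 0x2fff00009150)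
 (Net.cons 32 (nat_lit 0x38cbd31c)
 Net.nil)))))))))))

noncomputable def T4_n_10 : Net :=
 (Net.cons 32 (nat_lit 0x32781e4c)
 (Net.cons 16 (nat_lit 0xde800000fd80)
 (Net.cons 8 (nat_lit 0x3600de00a000f0)
 (Net.cons 4 (nat_lit 0xa080c06080c0606)
 (Net.cons 2 (nat_lit 0x2000000020200222)
 (Net.cons 1 (nat_lit 0x4405510140454114)
 (Net.cons 2 (nat_lit 0x131012132122313)
 (Net.cons 4 (nat_lit 0x60e040709080a0c)
 (Net.cons 8 (nat_lit 0xf2004f0061003e)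
 (Net.cons 16 (nat_lit 0x1276000001bf)
 (Net.cons 32 (nat_lit 0xcd87e1b3)
 Net.nil)))))))))))

noncomputable def T4_n : List Net := [Net.nil,
 Net.nil,
 T4_n_2,
 Net.nil,
 Net.nil,
 T4_n_5,
 T4_n_6,
 Net.nil,
 T4_n_8,
 T4_n_9,
 T4_n_10]

theorem T4_n_ok : NetsOK 64 T4_n := netsOK_of (by decide +kernel)

theorem T4_n_rel : Rels (gp T4_n) T4_R := rels_of_relsB (k := 6) T4_n_ok (by norm_num) (by decide +kernel)

theorem T4_fin : finB 64 T4_n [2,5,6,8,9,10] 64 (runH 64 T4_n (fun x p => ptInv (nth Net.nil T4_n x) p) iv T4_R [] ([].map fun x => [x]) 0 []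
  [0,4,8,12,16,20,24,28,32,36,40,44,48,52,56,60,64,68,72,76,80]
  (defsH 64 T4_n (ones 960) [2,5,6,8,9,10] (Nat.shiftLeft 1 0) 0)) = true := by decide +kernel

theorem T4_idx : Idx.{u} iv (T4_R ++ []) ([].map fun x => [x]) [2,5,6,8,9,10] 64 :=
  Reach.idx T4_n_ok (reach_runH T4_n_ok (fun x p _ => ptInv_gp T4_n_ok x p) T4_n_rel (reach_defsH T4_n_ok _ _ _ _ _ _) _ _) T4_fin (by norm_num)

end Cfsg.Lib.Comp.HdH
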