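import Cfsg.Agent.Lib.Comp.HdH.T00

set_option maxRecDepth 100000
set_option Elab.async false

namespace Cfsg.Lib.Comp.HdH

universe u

theorem T0_n_r0_0 : eqB 32768 15 0 15 T0_n [1] 1 [] = true := by decide +kernel

theorem T0_n_r1_0 : eqB 32768 15 0 15 T0_n [2] 1 [] = true := by decide +kernel

theorem T0_n_r2_0 : eqB 32768 15 0 15 T0_n [3] 1 [] = true := by decide +kernel

theorem T0_n_r3_0 : eqB 32768 15 0 15 T0_n [4] 1 [] = true := by decide +kernel

theorem T0_n_r4_0 : eqB 32768 15 0 15 T0_n [5] 1 [] = true := by decide +kernel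

theorem T0_n_r5_0 : eqB 32768 15 0 15 T0_n [6] 1 [] = true := by decide +kernel

theorem T0_n_r6_0 : eqB 32768 15 0 15 T0_n [7] 1 [] = true := by decide +kernel

theorem T0_n_r7_0 : eqB 32768 15 0 15 T0_n [8] 1 [] = true := by decide +kernel

theorem T0_n_r8_0 : eqB 32768 15 0 15 T0_n [9] 1 [] = true := by decide +kernel

theorem T0_n_r9_0 : eqB 32768 15 0 15 T0_n [10] 1 [] = true := by decide +kernel

theorem T0_n_r10_0 : eqB 32768 15 0 15 T0_n [11] 1 [] = true := by decide +kernel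

theorem T0_n_r11_0 : eqB 32768 15 0 15 T0_n [12] 1 [] = true := by decide +kernel

theorem T0_n_r12_0 : eqB 32768 15 0 15 T0_n [1,2,1,2,5] 0 [] = true := by decide +kernel

theorem T0_n_r13_0 : eqB 32768 15 0 15 T0_n [1,3] 1 [] = true := by decide +kernel

theorem T0_n_r14_0 : eqB 32768 15 0 15 T0_n [1,4] 1 [] = true := by decide +kernel

theorem T0_n_r15_0 : eqB 32768 15 0 15 T0_n [1,5] 1 [] = true := by decide +kernel

theorem T0_n_r16_0 : eqB 32768 15 0 15 T0_n [1,6,1,6,8] 0 [] = true := by decide +kernel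

theorem T0_n_r17_0 : eqB 32768 15 0 15 T0_n [1,7] 1 [] = true := by decide +kernel

theorem T0_n_r18_0 : eqB 32768 15 0 15 T0_n [1,8] 1 [] = true := by decide +kernel

theorem T0_n_r19_0 : eqB 32768 15 0 15 T0_n [1,9,1,9,10] 0 [] = true := by decide +kernel

theorem T0_n_r20_0 : eqB 32768 15 0 15 T0_n [1,10] 1 [] = true := by decide +kernel

theorem T0_n_r21_0 : eqB 32768 15 0 15 T0_n [2,3,2,3,6] 0 [] = true := by decide +kernel

theorem T0_n_r22_0 : eqB 32768 15 0 15 T0_n [2,4] 1 [] = true := by decide +kernel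

theorem T0_n_r23_0 : eqB 32768 15 0 15 T0_n [2,5] 1 [] = true := by decide +kernel

theorem T0_n_r24_0 : eqB 32768 15 0 15 T0_n [2,6] 1 [] = true := by decide +kernel

theorem T0_n_r25_0 : eqB 32768 15 0 15 T0_n [2,7,2,7,9] 0 [] = true := by decide +kernel

theorem T0_n_r26_0 : eqB 32768 15 0 15 T0_n [2,8] 1 [] = true := by decide +kernel

theorem T0_n_r27_0 : eqB 32768 15 0 15 T0_n [2,9] 1 [] = true := by decide +kernel

theorem T0_n_r28_0 : eqB 32768 15 0 15 T0_n [2,10] 1 [] = true := by decide +kernel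

theorem T0_n_r29_0 : eqB 32768 15 0 15 T0_n [3,4,3,4,7] 0 [] = true := by decide +kernel

theorem T0_n_r30_0 : eqB 32768 15 0 15 T0_n [3,5,3,5,8] 0 [] = true := by decide +kernel

theorem T0_n_r31_0 : eqB 32768 15 0 15 T0_n [3,6] 1 [] = true := by decide +kernel

theorem T0_n_r32_0 : eqB 32768 15 0 15 T0_n [3,7] 1 [] = true := by decide +kernel

theorem T0_n_r33_0 : eqB 32768 15 0 15 T0_n [3,8] 1 [] = true := by decide +kernel

theorem T0_n_r34_0 : eqB 32768 15 0 15 T0_n [3,9] 1 [] = true := by decide +kernel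

theorem T0_n_r35_0 : eqB 32768 15 0 15 T0_n [3,10] 1 [] = true := by decide +kernel

theorem T0_n_r36_0 : eqB 32768 15 0 15 T0_n [4,5] 1 [] = true := by decide +kernel

theorem T0_n_r37_0 : eqB 32768 15 0 15 T0_n [4,6,4,6,9] 0 [] = true := by decide +kernel

theorem T0_n_r38_0 : eqB 32768 15 0 15 T0_n [4,7] 1 [] = true := by decide +kernel

theorem T0_n_r39_0 : eqB 32768 15 0 15 T0_n [4,8,4,8,10] 0 [] = true := by decide +kernel

theorem T0_n_r40_0 : eqB 32768 15 0 15 T0_n [4,9] 1 [] = true := by decide +kernel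

theorem T0_n_r41_0 : eqB 32768 15 0 15 T0_n [4,10] 1 [] = true := by decide +kernel

theorem T0_n_r42_0 : eqB 32768 15 0 15 T0_n [5,6] 1 [] = true := by decide +kernel

theorem T0_n_r43_0 : eqB 32768 15 0 15 T0_n [5,7,5,7,10] 0 [] = true := by decide +kernel

theorem T0_n_r44_0 : eqB 32768 15 0 15 T0_n [5,8] 1 [] = true := by decide +kernel

theorem T0_n_r45_0 : eqB 32768 15 0 15 T0_n [5,9] 1 [] = true := by decide +kernel

theorem T0_n_r46_0 : eqB 32768 15 0 15 T0_n [5,10] 1 [] = true := by decide +kernel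

theorem T0_n_r47_0 : eqB 32768 15 0 15 T0_n [6,7] 1 [] = true := by decide +kernel

theorem T0_n_r48_0 : eqB 32768 15 0 15 T0_n [6,8] 1 [] = true := by decide +kernel

theorem T0_n_r49_0 : eqB 32768 15 0 15 T0_n [6,9] 1 [] = true := by decide +kernel

theorem T0_n_r50_0 : eqB 32768 15 0 15 T0_n [6,10] 1 [] = true := by decide +kernel

theorem T0_n_r51_0 : eqB 32768 15 0 15 T0_n [7,8] 1 [] = true := by decide +kernel

theorem T0_n_r52_0 : eqB 32768 15 0 15 T0_n [7,9] 1 [] = true := by decide +kernel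

theorem T0_n_r53_0 : eqB 32768 15 0 15 T0_n [7,10] 1 [] = true := by decide +kernel

theorem T0_n_r54_0 : eqB 32768 15 0 15 T0_n [8,9] 1 [] = true := by decide +kernel

theorem T0_n_r55_0 : eqB 32768 15 0 15 T0_n [8,10] 1 [] = true := by decide +kernel

theorem T0_n_r56_0 : eqB 32768 15 0 15 T0_n [9,10] 1 [] = true := by decide +kernel

theorem T0_n_r57_0 : eqB 32768 15 0 15 T0_n [11,2] 2 [] = true := by decide +kernel

theorem T0_n_r58_0 : eqB 32768 15 0 15 T0_n [11,1] 1 [] = true := by decide +kernel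

theorem T0_n_r59_0 : eqB 32768 15 0 15 T0_n [11,3] 1 [] = true := by decide +kernel

theorem T0_n_r60_0 : eqB 32768 15 0 15 T0_n [11,4] 1 [] = true := by decide +kernel

theorem T0_n_r61_0 : eqB 32768 15 0 15 T0_n [11,5,11,5,1] 0 [] = true := by decide +kernel

theorem T0_n_r62_0 : eqB 32768 15 0 15 T0_n [11,6,11,6,3] 0 [] = true := by decide +kernel

theorem T0_n_r63_0 : eqB 32768 15 0 15 T0_n [11,7] 1 [] = true := by decide +kernel

theorem T0_n_r64_0 : eqB 32768 15 0 15 T0_n [11,8] 1 [] = true := by decide +kernel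

theorem T0_n_r65_0 : eqB 32768 15 0 15 T0_n [11,9,11,9,7] 0 [] = true := by decide +kernel

theorem T0_n_r66_0 : eqB 32768 15 0 15 T0_n [11,10] 1 [] = true := by decide +kernel

theorem T0_n_r67_0 : eqB 32768 15 0 15 T0_n [12,3] 2 [] = true := by decide +kernel

theorem T0_n_r68_0 : eqB 32768 15 0 15 T0_n [12,1] 1 [] = true := by decide +kernel

theorem T0_n_r69_0 : eqB 32768 15 0 15 T0_n [12,2] 1 [] = true := by decide +kernel

theorem T0_n_r70_0 : eqB 32768 15 0 15 T0_n [12,4] 1 [] = true := by decide +kernel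

theorem T0_n_r71_0 : eqB 32768 15 0 15 T0_n [12,5] 1 [] = true := by decide +kernel

theorem T0_n_r72_0 : eqB 32768 15 0 15 T0_n [12,6,12,6,2] 0 [] = true := by decide +kernel

theorem T0_n_r73_0 : eqB 32768 15 0 15 T0_n [12,7,12,7,4] 0 [] = true := by decide +kernel

theorem T0_n_r74_0 : eqB 32768 15 0 15 T0_n [12,8,12,8,5] 0 [] = true := by decide +kernel

theorem T0_n_r75_0 : eqB 32768 15 0 15 T0_n [12,9] 1 [] = true := by decide +kernel

theorem T0_n_r76_0 : eqB 32768 15 0 15 T0_n [12,10] 1 [] = true := by decide +kernel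

theorem T0_n_r77_0 : eqB 32768 15 0 15 T0_n [2,11,2,3,12,3] 2 [] = true := by decide +kernel

theorem T0_n_r78_0 : eqB 32768 15 0 15 T0_n [13] 2 [] = true := by decide +kernel

theorem T0_n_r79_0 : eqB 32768 15 0 15 T0_n [4,13] 1 [] = true := by decide +kernel

theorem T0_n_r80_0 : eqB 32768 15 0 15 T0_n [13,1,14,8,3,1] 0 [] = true := by decide +kernel

theorem T0_n_r81_0 : eqB 32768 15 0 15 T0_n [13,2,14,8,2] 0 [] = true := by decide +kernel

theorem T0_n_r82_0 : eqB 32768 15 0 15 T0_n [13,3,14,7] 0 [] = true := by decide +kernel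

theorem T0_n_r83_0 : eqB 32768 15 0 15 T0_n [13,5,14,8,6,5] 0 [] = true := by decide +kernel

theorem T0_n_r84_0 : eqB 32768 15 0 15 T0_n [13,6,14,9] 0 [] = true := by decide +kernel

theorem T0_n_r85_0 : eqB 32768 15 0 15 T0_n [13,7,14,7,3] 0 [] = true := by decide +kernel

theorem T0_n_r86_0 : eqB 32768 15 0 15 T0_n [13,8,14,10] 0 [] = true := by decide +kernel

theorem T0_n_r87_0 : eqB 32768 15 0 15 T0_n [13,9,14,9,6] 0 [] = true := by decide +kernel

theorem T0_n_r88_0 : eqB 32768 15 0 15 T0_n [13,10,14,10,8] 0 [] = true := by decide +kernel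

theorem T0_n_r89_0 : eqB 32768 15 0 15 T0_n [13,11,14,11,8] 0 [] = true := by decide +kernel

theorem T0_n_r90_0 : eqB 32768 15 0 15 T0_n [12,13,12,13,12,13,12,13,12,13,10,2] 0 [] = true := by decide +kernel

theorem T0_n_r91_0 : eqB 32768 15 0 15 T0_n [13,14] 0 [] = true := by decide +kernel

theorem T0_n_rel : Rels (gp T0_n) T0_R := by
  unfold T0_R
  try simp only [apd_eq]
  intro r hr
  simp only [List.mem_append, List.mem_cons, List.not_mem_nil, or_false, or_assoc] at hr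
  rcases hr with rfl | rfl | rfl | rfl | rfl | rfl | rfl | rfl | rfl | rfl | rfl | rfl | rfl | rfl | rfl | rfl | rfl | rfl | rfl | rfl | rfl | rfl | rfl | rfl | rfl | rfl | rfl | rfl | rfl | rfl | rfl | rfl | rfl | rfl | rfl | rfl | rfl | rfl | rfl | rfl | rfl | rfl | rfl | rfl | rfl | rfl | rfl | rfl | rfl | rfl | rfl | rfl | rfl | rfl | rfl | rfl | rfl | rfl | rfl | rfl | rfl | rfl | rfl | rfl | rfl | rfl | rfl | rfl | rfl | rfl | rfl | rfl | rfl | rfl | rfl | rfl | rfl | rfl | rfl | rfl | rfl | rfl | rfl | rfl | rfl | rfl | rfl | rfl | rfl | rfl | rfl | rfl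
  · exact AgreeBits.eq (k := 15) (agree_of_eqB T0_n_ok (by norm_num) T0_n_r0_0) (by norm_num) ((fx_ev T0_n_ok.fx _).pow _) (Fx.one _)
  · exact AgreeBits.eq (k := 15) (agree_of_eqB T0_n_ok (by norm_num) T0_n_r1_0) (by norm_num) ((fx_ev T0_n_ok.fx _).pow _) (Fx.one _)
  · exact AgreeBits.eq (k := 15) (agree_of_eqB T0_n_ok (by norm_num) T0_n_r2_0) (by norm_num) ((fx_ev T0_n_ok.fx _).pow _) (Fx.one _)
  · exact AgreeBits.eq (k := 15) (agree_of_eqB T0_n_ok (by norm_num) T0_n_r3_0) (by norm_num) ((fx_ev T0_n_ok.fx _).pow _) (Fx.one _)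
  · exact AgreeBits.eq (k := 15) (agree_of_eqB T0_n_ok (by norm_num) T0_n_r4_0) (by norm_num) ((fx_ev T0_n_ok.fx _).pow _) (Fx.one _)
  · exact AgreeBits.eq (k := 15) (agree_of_eqB T0_n_ok (by norm_num) T0_n_r5_0) (by norm_num) ((fx_ev T0_n_ok.fx _).pow _) (Fx.one _)
  · exact AgreeBits.eq (k := 15) (agree_of_eqB T0_n_ok (by norm_num) T0_n_r6_0) (by norm_num) ((fx_ev T0_n_ok.fx _).pow _) (Fx.one _)
  · exact AgreeBits.eq (k := 15) (agree_of_eqB T0_n_ok (by norm_num) T0_n_r7_0) (by norm_num) ((fx_ev T0_n_ok.fx _).pow _) (Fx.one _)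
  · exact AgreeBits.eq (k := 15) (agree_of_eqB T0_n_ok (by norm_num) T0_n_r8_0) (by norm_num) ((fx_ev T0_n_ok.fx _).pow _) (Fx.one _)
  · exact AgreeBits.eq (k := 15) (agree_of_eqB T0_n_ok (by norm_num) T0_n_r9_0) (by norm_num) ((fx_ev T0_n_ok.fx _).pow _) (Fx.one _)
  · exact AgreeBits.eq (k := 15) (agree_of_eqB T0_n_ok (by norm_num) T0_n_r10_0) (by norm_num) ((fx_ev T0_n_ok.fx _).pow _) (Fx.one _)
  · exact AgreeBits.eq (k := 15) (agree_of_eqB T0_n_ok (by norm_num) T0_n_r11_0) (by norm_num) ((fx_ev T0_n_ok.fx _).pow _) (Fx.one _)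
  · exact AgreeBits.eq (k := 15) (agree_of_eqB T0_n_ok (by norm_num) T0_n_r12_0) (by norm_num) ((fx_ev T0_n_ok.fx _).pow _) (Fx.one _)
  · exact AgreeBits.eq (k := 15) (agree_of_eqB T0_n_ok (by norm_num) T0_n_r13_0) (by norm_num) ((fx_ev T0_n_ok.fx _).pow _) (Fx.one _)
  · exact AgreeBits.eq (k := 15) (agree_of_eqB T0_n_ok (by norm_num) T0_n_r14_0) (by norm_num) ((fx_ev T0_n_ok.fx _).pow _) (Fx.one _)
  · exact AgreeBits.eq (k := 15) (agree_of_eqB T0_n_ok (by norm_num) T0_n_r15_0) (by norm_num) ((fx_ev T0_n_ok.fx _).pow _) (Fx.one _)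
  · exact AgreeBits.eq (k := 15) (agree_of_eqB T0_n_ok (by norm_num) T0_n_r16_0) (by norm_num) ((fx_ev T0_n_ok.fx _).pow _) (Fx.one _)
  · exact AgreeBits.eq (k := 15) (agree_of_eqB T0_n_ok (by norm_num) T0_n_r17_0) (by norm_num) ((fx_ev T0_n_ok.fx _).pow _) (Fx.one _)
  · exact AgreeBits.eq (k := 15) (agree_of_eqB T0_n_ok (by norm_num) T0_n_r18_0) (by norm_num) ((fx_ev T0_n_ok.fx _).pow _) (Fx.one _)
  · exact AgreeBits.eq (k := 15) (agree_of_eqB T0_n_ok (by norm_num) T0_n_r19_0) (by norm_num) ((fx_ev T0_n_ok.fx _).pow _) (Fx.one _)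
  · exact AgreeBits.eq (k := 15) (agree_of_eqB T0_n_ok (by norm_num) T0_n_r20_0) (by norm_num) ((fx_ev T0_n_ok.fx _).pow _) (Fx.one _)
  · exact AgreeBits.eq (k := 15) (agree_of_eqB T0_n_ok (by norm_num) T0_n_r21_0) (by norm_num) ((fx_ev T0_n_ok.fx _).pow _) (Fx.one _)
  · exact AgreeBits.eq (k := 15) (agree_of_eqB T0_n_ok (by norm_num) T0_n_r22_0) (by norm_num) ((fx_ev T0_n_ok.fx _).pow _) (Fx.one _)
  · exact AgreeBits.eq (k := 15) (agree_of_eqB T0_n_ok (by norm_num) T0_n_r23_0) (by norm_num) ((fx_ev T0_n_ok.fx _).pow _) (Fx.one _)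
  · exact AgreeBits.eq (k := 15) (agree_of_eqB T0_n_ok (by norm_num) T0_n_r24_0) (by norm_num) ((fx_ev T0_n_ok.fx _).pow _) (Fx.one _)
  · exact AgreeBits.eq (k := 15) (agree_of_eqB T0_n_ok (by norm_num) T0_n_r25_0) (by norm_num) ((fx_ev T0_n_ok.fx _).pow _) (Fx.one _)
  · exact AgreeBits.eq (k := 15) (agree_of_eqB T0_n_ok (by norm_num) T0_n_r26_0) (by norm_num) ((fx_ev T0_n_ok.fx _).pow _) (Fx.one _)
  · exact AgreeBits.eq (k := 15) (agree_of_eqB T0_n_ok (by norm_num) T0_n_r27_0) (by norm_num) ((fx_ev T0_n_ok.fx _).pow _) (Fx.one _)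
  · exact AgreeBits.eq (k := 15) (agree_of_eqB T0_n_ok (by norm_num) T0_n_r28_0) (by norm_num) ((fx_ev T0_n_ok.fx _).pow _) (Fx.one _)
  · exact AgreeBits.eq (k := 15) (agree_of_eqB T0_n_ok (by norm_num) T0_n_r29_0) (by norm_num) ((fx_ev T0_n_ok.fx _).pow _) (Fx.one _)
  · exact AgreeBits.eq (k := 15) (agree_of_eqB T0_n_ok (by norm_num) T0_n_r30_0) (by norm_num) ((fx_ev T0_n_ok.fx _).pow _) (Fx.one _)
  · exact AgreeBits.eq (k := 15) (agree_of_eqB T0_n_ok (by norm_num) T0_n_r31_0) (by norm_num) ((fx_ev T0_n_ok.fx _).pow _) (Fx.one _)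
  · exact AgreeBits.eq (k := 15) (agree_of_eqB T0_n_ok (by norm_num) T0_n_r32_0) (by norm_num) ((fx_ev T0_n_ok.fx _).pow _) (Fx.one _)
  · exact AgreeBits.eq (k := 15) (agree_of_eqB T0_n_ok (by norm_num) T0_n_r33_0) (by norm_num) ((fx_ev T0_n_ok.fx _).pow _) (Fx.one _)
  · exact AgreeBits.eq (k := 15) (agree_of_eqB T0_n_ok (by norm_num) T0_n_r34_0) (by norm_num) ((fx_ev T0_n_ok.fx _).pow _) (Fx.one _)
  · exact AgreeBits.eq (k := 15) (agree_of_eqB T0_n_ok (by norm_num) T0_n_r35_0) (by norm_num) ((fx_ev T0_n_ok.fx _).pow _) (Fx.one _)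
  · exact AgreeBits.eq (k := 15) (agree_of_eqB T0_n_ok (by norm_num) T0_n_r36_0) (by norm_num) ((fx_ev T0_n_ok.fx _).pow _) (Fx.one _)
  · exact AgreeBits.eq (k := 15) (agree_of_eqB T0_n_ok (by norm_num) T0_n_r37_0) (by norm_num) ((fx_ev T0_n_ok.fx _).pow _) (Fx.one _)
  · exact AgreeBits.eq (k := 15) (agree_of_eqB T0_n_ok (by norm_num) T0_n_r38_0) (by norm_num) ((fx_ev T0_n_ok.fx _).pow _) (Fx.one _)
  · exact AgreeBits.eq (k := 15) (agree_of_eqB T0_n_ok (by norm_num) T0_n_r39_0) (by norm_num) ((fx_ev T0_n_ok.fx _).pow _) (Fx.one _)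
  · exact AgreeBits.eq (k := 15) (agree_of_eqB T0_n_ok (by norm_num) T0_n_r40_0) (by norm_num) ((fx_ev T0_n_ok.fx _).pow _) (Fx.one _)
  · exact AgreeBits.eq (k := 15) (agree_of_eqB T0_n_ok (by norm_num) T0_n_r41_0) (by norm_num) ((fx_ev T0_n_ok.fx _).pow _) (Fx.one _)
  · exact AgreeBits.eq (k := 15) (agree_of_eqB T0_n_ok (by norm_num) T0_n_r42_0) (by norm_num) ((fx_ev T0_n_ok.fx _).pow _) (Fx.one _)
  · exact AgreeBits.eq (k := 15) (agree_of_eqB T0_n_ok (by norm_num) T0_n_r43_0) (by norm_num) ((fx_ev T0_n_ok.fx _).pow _) (Fx.one _)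
  · exact AgreeBits.eq (k := 15) (agree_of_eqB T0_n_ok (by norm_num) T0_n_r44_0) (by norm_num) ((fx_ev T0_n_ok.fx _).pow _) (Fx.one _)
  · exact AgreeBits.eq (k := 15) (agree_of_eqB T0_n_ok (by norm_num) T0_n_r45_0) (by norm_num) ((fx_ev T0_n_ok.fx _).pow _) (Fx.one _)
  · exact AgreeBits.eq (k := 15) (agree_of_eqB T0_n_ok (by norm_num) T0_n_r46_0) (by norm_num) ((fx_ev T0_n_ok.fx _).pow _) (Fx.one _)
  · exact AgreeBits.eq (k := 15) (agree_of_eqB T0_n_ok (by norm_num) T0_n_r47_0) (by norm_num) ((fx_ev T0_n_ok.fx _).pow _) (Fx.one _)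
  · exact AgreeBits.eq (k := 15) (agree_of_eqB T0_n_ok (by norm_num) T0_n_r48_0) (by norm_num) ((fx_ev T0_n_ok.fx _).pow _) (Fx.one _)
  · exact AgreeBits.eq (k := 15) (agree_of_eqB T0_n_ok (by norm_num) T0_n_r49_0) (by norm_num) ((fx_ev T0_n_ok.fx _).pow _) (Fx.one _)
  · exact AgreeBits.eq (k := 15) (agree_of_eqB T0_n_ok (by norm_num) T0_n_r50_0) (by norm_num) ((fx_ev T0_n_ok.fx _).pow _) (Fx.one _)
  · exact AgreeBits.eq (k := 15) (agree_of_eqB T0_n_ok (by norm_num) T0_n_r51_0) (by norm_num) ((fx_ev T0_n_ok.fx _).pow _) (Fx.one _)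
  · exact AgreeBits.eq (k := 15) (agree_of_eqB T0_n_ok (by norm_num) T0_n_r52_0) (by norm_num) ((fx_ev T0_n_ok.fx _).pow _) (Fx.one _)
  · exact AgreeBits.eq (k := 15) (agree_of_eqB T0_n_ok (by norm_num) T0_n_r53_0) (by norm_num) ((fx_ev T0_n_ok.fx _).pow _) (Fx.one _)
  · exact AgreeBits.eq (k := 15) (agree_of_eqB T0_n_ok (by norm_num) T0_n_r54_0) (by norm_num) ((fx_ev T0_n_ok.fx _).pow _) (Fx.one _)
  · exact AgreeBits.eq (k := 15) (agree_of_eqB T0_n_ok (by norm_num) T0_n_r55_0) (by norm_num) ((fx_ev T0_n_ok.fx _).pow _) (Fx.one _)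
  · exact AgreeBits.eq (k := 15) (agree_of_eqB T0_n_ok (by norm_num) T0_n_r56_0) (by norm_num) ((fx_ev T0_n_ok.fx _).pow _) (Fx.one _)
  · exact AgreeBits.eq (k := 15) (agree_of_eqB T0_n_ok (by norm_num) T0_n_r57_0) (by norm_num) ((fx_ev T0_n_ok.fx _).pow _) (Fx.one _)
  · exact AgreeBits.eq (k := 15) (agree_of_eqB T0_n_ok (by norm_num) T0_n_r58_0) (by norm_num) ((fx_ev T0_n_ok.fx _).pow _) (Fx.one _)
  · exact AgreeBits.eq (k := 15) (agree_of_eqB T0_n_ok (by norm_num) T0_n_r59_0) (by norm_num) ((fx_ev T0_n_ok.fx _).pow _) (Fx.one _)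
  · exact AgreeBits.eq (k := 15) (agree_of_eqB T0_n_ok (by norm_num) T0_n_r60_0) (by norm_num) ((fx_ev T0_n_ok.fx _).pow _) (Fx.one _)
  · exact AgreeBits.eq (k := 15) (agree_of_eqB T0_n_ok (by norm_num) T0_n_r61_0) (by norm_num) ((fx_ev T0_n_ok.fx _).pow _) (Fx.one _)
  · exact AgreeBits.eq (k := 15) (agree_of_eqB T0_n_ok (by norm_num) T0_n_r62_0) (by norm_num) ((fx_ev T0_n_ok.fx _).pow _) (Fx.one _)
  · exact AgreeBits.eq (k := 15) (agree_of_eqB T0_n_ok (by norm_num) T0_n_r63_0) (by norm_num) ((fx_ev T0_n_ok.fx _).pow _) (Fx.one _)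
  · exact AgreeBits.eq (k := 15) (agree_of_eqB T0_n_ok (by norm_num) T0_n_r64_0) (by norm_num) ((fx_ev T0_n_ok.fx _).pow _) (Fx.one _)
  · exact AgreeBits.eq (k := 15) (agree_of_eqB T0_n_ok (by norm_num) T0_n_r65_0) (by norm_num) ((fx_ev T0_n_ok.fx _).pow _) (Fx.one _)
  · exact AgreeBits.eq (k := 15) (agree_of_eqB T0_n_ok (by norm_num) T0_n_r66_0) (by norm_num) ((fx_ev T0_n_ok.fx _).pow _) (Fx.one _)
  · exact AgreeBits.eq (k := 15) (agree_of_eqB T0_n_ok (by norm_num) T0_n_r67_0) (by norm_num) ((fx_ev T0_n_ok.fx _).pow _) (Fx.one _)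
  · exact AgreeBits.eq (k := 15) (agree_of_eqB T0_n_ok (by norm_num) T0_n_r68_0) (by norm_num) ((fx_ev T0_n_ok.fx _).pow _) (Fx.one _)
  · exact AgreeBits.eq (k := 15) (agree_of_eqB T0_n_ok (by norm_num) T0_n_r69_0) (by norm_num) ((fx_ev T0_n_ok.fx _).pow _) (Fx.one _)
  · exact AgreeBits.eq (k := 15) (agree_of_eqB T0_n_ok (by norm_num) T0_n_r70_0) (by norm_num) ((fx_ev T0_n_ok.fx _).pow _) (Fx.one _)
  · exact AgreeBits.eq (k := 15) (agree_of_eqB T0_n_ok (by norm_num) T0_n_r71_0) (by norm_num) ((fx_ev T0_n_ok.fx _).pow _) (Fx.one _)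
  · exact AgreeBits.eq (k := 15) (agree_of_eqB T0_n_ok (by norm_num) T0_n_r72_0) (by norm_num) ((fx_ev T0_n_ok.fx _).pow _) (Fx.one _)
  · exact AgreeBits.eq (k := 15) (agree_of_eqB T0_n_ok (by norm_num) T0_n_r73_0) (by norm_num) ((fx_ev T0_n_ok.fx _).pow _) (Fx.one _)
  · exact AgreeBits.eq (k := 15) (agree_of_eqB T0_n_ok (by norm_num) T0_n_r74_0) (by norm_num) ((fx_ev T0_n_ok.fx _).pow _) (Fx.one _)
  · exact AgreeBits.eq (k := 15) (agree_of_eqB T0_n_ok (by norm_num) T0_n_r75_0) (by norm_num) ((fx_ev T0_n_ok.fx _).pow _) (Fx.one _)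
  · exact AgreeBits.eq (k := 15) (agree_of_eqB T0_n_ok (by norm_num) T0_n_r76_0) (by norm_num) ((fx_ev T0_n_ok.fx _).pow _) (Fx.one _)
  · exact AgreeBits.eq (k := 15) (agree_of_eqB T0_n_ok (by norm_num) T0_n_r77_0) (by norm_num) ((fx_ev T0_n_ok.fx _).pow _) (Fx.one _)
  · exact AgreeBits.eq (k := 15) (agree_of_eqB T0_n_ok (by norm_num) T0_n_r78_0) (by norm_num) ((fx_ev T0_n_ok.fx _).pow _) (Fx.one _)
  · exact AgreeBits.eq (k := 15) (agree_of_eqB T0_n_ok (by norm_num) T0_n_r79_0) (by norm_num) ((fx_ev T0_n_ok.fx _).pow _) (Fx.one _)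
  · exact AgreeBits.eq (k := 15) (agree_of_eqB T0_n_ok (by norm_num) T0_n_r80_0) (by norm_num) ((fx_ev T0_n_ok.fx _).pow _) (Fx.one _)
  · exact AgreeBits.eq (k := 15) (agree_of_eqB T0_n_ok (by norm_num) T0_n_r81_0) (by norm_num) ((fx_ev T0_n_ok.fx _).pow _) (Fx.one _)
  · exact AgreeBits.eq (k := 15) (agree_of_eqB T0_n_ok (by norm_num) T0_n_r82_0) (by norm_num) ((fx_ev T0_n_ok.fx _).pow _) (Fx.one _)
  · exact AgreeBits.eq (k := 15) (agree_of_eqB T0_n_ok (by norm_num) T0_n_r83_0) (by norm_num) ((fx_ev T0_n_ok.fx _).pow _) (Fx.one _)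
  · exact AgreeBits.eq (k := 15) (agree_of_eqB T0_n_ok (by norm_num) T0_n_r84_0) (by norm_num) ((fx_ev T0_n_ok.fx _).pow _) (Fx.one _)
  · exact AgreeBits.eq (k := 15) (agree_of_eqB T0_n_ok (by norm_num) T0_n_r85_0) (by norm_num) ((fx_ev T0_n_ok.fx _).pow _) (Fx.one _)
  · exact AgreeBits.eq (k := 15) (agree_of_eqB T0_n_ok (by norm_num) T0_n_r86_0) (by norm_num) ((fx_ev T0_n_ok.fx _).pow _) (Fx.one _)
  · exact AgreeBits.eq (k := 15) (agree_of_eqB T0_n_ok (by norm_num) T0_n_r87_0) (by norm_num) ((fx_ev T0_n_ok.fx _).pow _) (Fx.one _)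
  · exact AgreeBits.eq (k := 15) (agree_of_eqB T0_n_ok (by norm_num) T0_n_r88_0) (by norm_num) ((fx_ev T0_n_ok.fx _).pow _) (Fx.one _)
  · exact AgreeBits.eq (k := 15) (agree_of_eqB T0_n_ok (by norm_num) T0_n_r89_0) (by norm_num) ((fx_ev T0_n_ok.fx _).pow _) (Fx.one _)
  · exact AgreeBits.eq (k := 15) (agree_of_eqB T0_n_ok (by norm_num) T0_n_r90_0) (by norm_num) ((fx_ev T0_n_ok.fx _).pow _) (Fx.one _)
  · exact AgreeBits.eq (k := 15) (agree_of_eqB T0_n_ok (by norm_num) T0_n_r91_0) (by norm_num) ((fx_ev T0_n_ok.fx _).pow _) (Fx.one _)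

end Cfsg.Lib.Comp.HdH
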