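import Cfsg.Agent.Lib.Comp.HdH.T09

set_option maxRecDepth 100000
set_option Elab.async false

namespace Cfsg.Lib.Comp.HdH

universe u

theorem T0_fin : finB 32768 T0_n [1,2,3,4,5,6,7,8,9,10,11,12,13,14] 29155 (runH 32768 T0_n (tbk 15 4 prs15 T0_n 1024) iv T0_R [] ([1,2,3,4,5,6,7,8,9,10,12,13,14].map fun x => [x]) 0 []
  (apd [4,40,48,88,92,100,104,108,112,228,232,236,240,244,248,252,256,260,264,276,288,324,328,332,336,340,344,348,356,360,364,4,8,16,24,32,44,48,52,56,60,64,72,76,84,88,92,96,100,104,108,116,120,124,128,132,144,148,152,168]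
 [228,232,236,240,252,268,272,292,312,320,324,328,332,340,344,356,360,364,0,8,24,52,56,68,116,232,236,244,248,252,260,268,360,364,44,268,272,312,320,328,332,340,308,228,276,288,324,328,332,336,348,356,360,16,48,84,100,228])
  T0_K7) = true := by decide +kernel

theorem T0_idx : Idx.{u} iv (T0_R ++ []) ([1,2,3,4,5,6,7,8,9,10,12,13,14].map fun x => [x]) [1,2,3,4,5,6,7,8,9,10,11,12,13,14] 29155 :=
  Reach.idx T0_n_ok (reach_runH T0_n_ok (tbk_eq tr15 (by norm_num) (by norm_num) (by norm_num) T0_n_ok) T0_n_rel T0_K7_reach _ _) T0_fin (by norm_num)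

end Cfsg.Lib.Comp.HdH
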